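import Cfsg.Agent.SignalizersComponents.Components
import Cfsg.Agent.Lib.Cores
import Cfsg.Prelude.Def_SevenCases
import Cfsg.Agent.S0144

-- merged: Cfsg.Agent.GenType.Comp
section

/-!
# Components of `C / O_{p'}(C)` (helper8)

* `le_of_perfect` : a perfect subgroup lies in every normal subgroup with solvable quotient;
* `no_comp_of_solvable` : a solvable group has no component;
* `comp_equiv` : if `N` is a normal non-abelian simple subgroup of `C`, `C / N` is solvable and `p ∣ |N|`, then every
  component of `C / O_{p'}(C)` is isomorphic to `N`.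
-/

set_option autoImplicit false

namespace Cfsg.Agent.GenType

open Subgroup Cfsg Cfsg.Agent.SignalizersComponents.Components

variable {C : Type*} [Group C]

theorem le_of_perfect {N K : Subgroup C} [N.Normal] (hs : Group.IsSolvable (C ⧸ N)) (hK : Group.IsPerfect ↥K) :
    K ≤ N := by
  by_contra hle
  have hP : Group.IsPerfect ↥(K.map (QuotientGroup.mk' N)) :=
    Group.IsPerfect.ofSurjective (f := (QuotientGroup.mk' N).subgroupMap K)
      (MonoidHom.subgroupMap_surjective _ _)
  have hnt : Nontrivial ↥(K.map (QuotientGroup.mk' N)) := by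
    rw [Subgroup.nontrivial_iff_ne_bot]
    intro h
    rw [Subgroup.map_eq_bot_iff, QuotientGroup.ker_mk'] at h
    exact hle h
  exact Group.IsPerfect.not_isSolvable ↥(K.map (QuotientGroup.mk' N)) inferInstance

theorem no_comp_of_solvable (hC : Group.IsSolvable C) (K : Subgroup C) : ¬ IsComponent K :=
  fun h => quasisimple_not_isSolvable h.2 inferInstance

/-- A component contained in a simple subgroup is equal to it. -/
theorem eq_of_le_simple {N K : Subgroup C} [IsSimpleGroup ↥N] (hK : IsComponent K) (hle : K ≤ N) : K = N := by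
  have h1 : (K.subgroupOf N).IsSubnormal := (isComponent_subgroupOf hle hK).1
  have h2 : K.subgroupOf N = ⊤ ∨ K.subgroupOf N = ⊥ := by
    have key : ∀ M : Subgroup ↥N, M.IsSubnormal → M = ⊤ ∨ M = ⊥ := by
      intro M hM
      induction hM with
      | top => exact Or.inl rfl
      | step H L h_le hSubn hN ih =>
        rcases ih with rfl | hb
        · have hn : H.Normal := by
            rw [normal_subgroupOf_iff_le_normalizer h_le, top_le_iff, normalizer_eq_top_iff] at hN
            exact hN
          rcases hn.eq_bot_or_eq_top with h | h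
          · exact Or.inr h
          · exact Or.inl h
        · exact Or.inr (le_bot_iff.1 (hb ▸ h_le))
    exact key _ h1
  rcases h2 with h2 | h2
  · exact le_antisymm hle (subgroupOf_eq_top.1 h2)
  · exfalso
    apply component_ne_bot hK
    rw [subgroupOf_eq_bot] at h2
    rw [← inf_eq_left.2 hle]
    exact h2.eq_bot

theorem isPerfect_of_simple {N : Type*} [Group N] [IsSimpleGroup N] (hna : ¬ IsMulCommutative N) :
    Group.IsPerfect N := by
  refine ⟨?_⟩
  rcases (inferInstance : (commutator N).Normal).eq_bot_or_eq_top with h | h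
  · exfalso
    apply hna
    rw [commutator_eq_bot_iff_center_eq_top] at h
    refine ⟨⟨fun a b => ?_⟩⟩
    have hb : b ∈ center N := by rw [h]; trivial
    exact (mem_center_iff.1 hb a)
  · exact h

/-- The components of `C / O_{p'}(C)`, if `N` is a non-abelian simple normal subgroup of `C` with solvable quotient. -/
theorem comp_equiv [Finite C] {p : ℕ} (N : Subgroup C) [N.Normal] [IsSimpleGroup ↥N]
    (hs : Group.IsSolvable (C ⧸ N)) (hp : ¬ (Nat.card ↥N).Coprime p)
    (K : Subgroup (C ⧸ pPrimeCore p C)) (hK : IsComponent K) : Nonempty (↥K ≃* ↥N) := by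
  have hn := Cfsg.Agent.Lib.Cores.pPrimeCore_normal (G := C) p
  -- `N ∩ O_{p'}(C) = 1`
  have hinf : N ⊓ pPrimeCore p C = ⊥ := by
    have h1 : ((pPrimeCore p C).subgroupOf N).Normal := inferInstance
    rcases h1.eq_bot_or_eq_top with h | h
    · rw [subgroupOf_eq_bot] at h
      rw [inf_comm]
      exact h.eq_bot
    · exfalso
      apply hp
      have h2 : N ≤ pPrimeCore p C := subgroupOf_eq_top.1 h
      exact Nat.Coprime.coprime_dvd_left (card_dvd_of_le h2) (Cfsg.Agent.Lib.Cores.pPrimeCore_coprime p)
  set π := QuotientGroup.mk' (pPrimeCore p C) with hπ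
  have hker : Function.Injective (π.comp N.subtype) := by
    rw [injective_iff_map_eq_one]
    intro x hx
    have h1 : (x : C) ∈ pPrimeCore p C := by
      have : π (x : C) = 1 := hx
      rwa [hπ, QuotientGroup.mk'_apply, QuotientGroup.eq_one_iff] at this
    have h2 : (x : C) ∈ N ⊓ pPrimeCore p C := ⟨x.2, h1⟩
    rw [hinf, mem_bot] at h2
    exact Subtype.ext h2
  have hmap : (⊤ : Subgroup ↥N).map (π.comp N.subtype) = N.map π := by
    rw [← Subgroup.map_map, ← MonoidHom.range_eq_map, Subgroup.range_subtype]
  let e : ↥N ≃* ↥(N.map π) :=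
    (MonoidHom.ofInjective hker).trans (MulEquiv.subgroupCongr (by rw [MonoidHom.range_eq_map, hmap]))
  have hNn : (N.map π).Normal := (inferInstance : N.Normal).map π (QuotientGroup.mk'_surjective _)
  have hsimple : IsSimpleGroup ↥(N.map π) := (MulEquiv.isSimpleGroup_congr e).1 inferInstance
  have hs' : Group.IsSolvable ((C ⧸ pPrimeCore p C) ⧸ N.map π) := by
    have hsurj : Function.Surjective
        ((QuotientGroup.mk' (N.map π)).comp π) :=
      (QuotientGroup.mk'_surjective _).comp (QuotientGroup.mk'_surjective _)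
    have hle : N ≤ ((QuotientGroup.mk' (N.map π)).comp π).ker := by
      intro x hx
      rw [MonoidHom.mem_ker, MonoidHom.comp_apply, QuotientGroup.mk'_apply, QuotientGroup.eq_one_iff]
      exact mem_map_of_mem π hx
    have := Group.isSolvable_of_surjective
      (f := QuotientGroup.lift N ((QuotientGroup.mk' (N.map π)).comp π) (fun x hx => hle hx))
      (QuotientGroup.lift_surjective_of_surjective N _ hsurj _)
    exact this
  have hKN : K ≤ N.map π := le_of_perfect hs' hK.2.1
  have hKeq : K = N.map π := eq_of_le_simple hK hKN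
  rw [hKeq]
  exact ⟨e.symm⟩

end Cfsg.Agent.GenType

end

-- merged: Cfsg.Agent.GenType.Alt
section

/-!
# Components of involution centralizers in `A_n`, `8 ≤ n ≤ 11` (helper8)

`comp_alt` : `G ≃* A_n`, `8 ≤ n ≤ 11`, `x` an involution of `G`, `K` a component of `C_G(x)/O(C_G(x))`:
then `K ≃* A_m` with `5 ≤ m ≤ 7`.
-/

set_option autoImplicit false

namespace Cfsg.Agent.GenType

open Subgroup Cfsg Equiv Equiv.Perm

section alt

variable {α : Type} [Fintype α] [DecidableEq α] (x : alternatingGroup α)

/-- the moved points -/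
abbrev Mv (x : alternatingGroup α) := {i : α // (x : Perm α) i ≠ i}

/-- the fixed points -/
abbrev Fx (x : alternatingGroup α) := {i : α // (x : Perm α) i = i}

theorem comm_apply {c : alternatingGroup α} (hc : c ∈ centralizer ({x} : Set (alternatingGroup α))) (i : α) :
    (x : Perm α) ((c : Perm α) i) = (c : Perm α) ((x : Perm α) i) := by
  rw [mem_centralizer_singleton_iff] at hc
  have h1 : ((c * x : alternatingGroup α) : Perm α) i = ((x * c : alternatingGroup α) : Perm α) i := by rw [hc]
  exact h1.symm

theorem moved_iff {c : alternatingGroup α} (hc : c ∈ centralizer ({x} : Set (alternatingGroup α))) (i : α) :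
    (x : Perm α) ((c : Perm α) i) ≠ (c : Perm α) i ↔ (x : Perm α) i ≠ i := by
  rw [comm_apply x hc, ne_eq, EmbeddingLike.apply_eq_iff_eq]

/-- the action of the centralizer on the moved points -/
def rho : ↥(centralizer ({x} : Set (alternatingGroup α))) →* Perm (Mv x) where
  toFun c := (c : Perm α).subtypePerm (fun i => moved_iff x c.2 i)
  map_one' := by ext i; rfl
  map_mul' a b := by ext i; rfl

/-- `x` on its moved points -/
def xm : Perm (Mv x) := (x : Perm α).subtypePerm (fun i => by simp)

theorem rho_comm (c : ↥(centralizer ({x} : Set (alternatingGroup α)))) :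
    rho x c ∈ centralizer ({xm x} : Set (Perm (Mv x))) := by
  rw [mem_centralizer_singleton_iff]
  ext i
  exact (comm_apply x c.2 i).symm

/-- `A(fixed points)` in the centralizer -/
def phi : alternatingGroup (Fx x) →* ↥(centralizer ({x} : Set (alternatingGroup α))) where
  toFun g := ⟨⟨ofSubtype (g : Perm (Fx x)), by
      rw [mem_alternatingGroup, sign_ofSubtype]
      exact mem_alternatingGroup.1 g.2⟩, by
    rw [mem_centralizer_singleton_iff]
    apply Subtype.ext
    ext i
    change (ofSubtype (g : Perm (Fx x))) ((x : Perm α) i) = (x : Perm α) ((ofSubtype (g : Perm (Fx x))) i)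
    by_cases hi : (x : Perm α) i = i
    · rw [hi, ofSubtype_apply_of_mem (g : Perm (Fx x)) (p := fun i => (x : Perm α) i = i) hi]
      exact ((g : Perm (Fx x)) ⟨i, hi⟩).2.symm
    · have h2 : ¬ (x : Perm α) ((x : Perm α) i) = (x : Perm α) i := fun h => hi ((x : Perm α).injective h)
      rw [ofSubtype_apply_of_not_mem (g : Perm (Fx x)) (p := fun i => (x : Perm α) i = i) h2,
        ofSubtype_apply_of_not_mem (g : Perm (Fx x)) (p := fun i => (x : Perm α) i = i) hi]⟩
  map_one' := by
    apply Subtype.ext
    apply Subtype.ext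
    exact map_one ofSubtype
  map_mul' a b := by
    apply Subtype.ext
    apply Subtype.ext
    exact map_mul ofSubtype _ _

theorem phi_injective : Function.Injective (phi x) := by
  intro a b h
  have h1 : ofSubtype (a : Perm (Fx x)) = ofSubtype (b : Perm (Fx x)) :=
    congrArg (fun c : ↥(centralizer ({x} : Set (alternatingGroup α))) => ((c : alternatingGroup α) : Perm α)) h
  exact Subtype.ext (ofSubtype_injective h1)

theorem ker_rho : (rho x).ker = (phi x).range := by
  ext c
  rw [MonoidHom.mem_ker, MonoidHom.mem_range]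
  constructor
  · intro hc
    have h1 : ∀ i : α, (x : Perm α) i ≠ i → ((c : alternatingGroup α) : Perm α) i = i := by
      intro i hi
      have := congrArg (fun s : Perm (Mv x) => ((s ⟨i, hi⟩ : Mv x) : α)) hc
      exact this
    have h3 : ∀ i : α, (x : Perm α) (((c : alternatingGroup α) : Perm α) i) =
        ((c : alternatingGroup α) : Perm α) i ↔ (x : Perm α) i = i := by
      intro i
      have := moved_iff x c.2 i
      tauto
    have h4 : ∀ i : α, ((c : alternatingGroup α) : Perm α) i ≠ i → (x : Perm α) i = i := by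
      intro i hi
      by_contra h
      exact hi (h1 i h)
    refine ⟨⟨((c : alternatingGroup α) : Perm α).subtypePerm h3, ?_⟩, ?_⟩
    · rw [mem_alternatingGroup, sign_subtypePerm _ h3 h4]
      exact mem_alternatingGroup.1 (c : alternatingGroup α).2
    · apply Subtype.ext
      apply Subtype.ext
      exact ofSubtype_subtypePerm h3 h4
  · rintro ⟨g, rfl⟩
    ext ⟨i, hi⟩
    exact ofSubtype_apply_of_not_mem (g : Perm (Fx x)) (p := fun i => (x : Perm α) i = i) hi

/-- `N ≃* A(fixed points)` -/
noncomputable def kerEquiv : alternatingGroup (Fx x) ≃* ↥(rho x).ker :=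
  (MonoidHom.ofInjective (phi_injective x)).trans (MulEquiv.subgroupCongr (ker_rho x).symm)

theorem xm_order (hx : orderOf x = 2) : xm x ^ 2 = 1 := by
  ext ⟨i, hi⟩
  have h1 : x ^ 2 = 1 := by rw [← hx]; exact pow_orderOf_eq_one x
  have h2 : ((x ^ 2 : alternatingGroup α) : Perm α) i = i := by rw [h1]; rfl
  exact h2

theorem support_xm : (xm x).support = Finset.univ := by
  ext ⟨i, hi⟩
  simp only [mem_support, Finset.mem_univ, iff_true]
  intro h
  exact hi (congrArg Subtype.val h)

/-- the number of moved points is `2 k`, `k` even -/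
theorem card_moved (hx : orderOf x = 2) : 4 ∣ Fintype.card (Mv x) ∧ 0 < Fintype.card (Mv x) := by
  have h1 : ((x : alternatingGroup α) : Perm α) ^ 2 = 1 := by
    have : x ^ 2 = 1 := by rw [← hx]; exact pow_orderOf_eq_one x
    exact congrArg Subtype.val this
  have : Fact (Nat.Prime 2) := ⟨Nat.prime_two⟩
  have h2 := cycleType_of_pow_prime_eq_one h1
  have h3 : sign ((x : alternatingGroup α) : Perm α) = 1 := mem_alternatingGroup.1 x.2
  have hsupp : ((x : alternatingGroup α) : Perm α).support.card = Fintype.card (Mv x) := by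
    rw [Fintype.card_subtype]
    congr 1
  have h4 := sum_cycleType ((x : alternatingGroup α) : Perm α)
  rw [h2, Multiset.sum_replicate, smul_eq_mul, hsupp] at h4
  rw [sign_of_cycleType, h2, Multiset.sum_replicate, Multiset.card_replicate] at h3
  set k := Multiset.card (((x : alternatingGroup α) : Perm α).cycleType) with hk
  have h5 : Even k := by
    have h6 : ((-1 : ℤˣ)) ^ (k * 2 + k) = 1 := by simpa using h3
    rw [pow_add, pow_mul, mul_comm] at h6
    simp only [Int.units_sq, mul_one] at h6
    by_contra hne
    rw [Nat.not_even_iff_odd] at hne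
    rw [Odd.neg_one_pow hne] at h6
    exact absurd h6 (by decide)
  refine ⟨?_, ?_⟩
  · obtain ⟨j, hj⟩ := h5
    rw [← h4, hj]
    exact ⟨j, by ring⟩
  · rw [Fintype.card_pos_iff]
    by_contra hne
    rw [not_nonempty_iff] at hne
    have : x = 1 := by
      apply Subtype.ext
      ext i
      by_contra hi
      exact hne.elim ⟨i, hi⟩
    rw [this, orderOf_one] at hx
    omega

theorem card_centralizer_xm (hx : orderOf x = 2) {k : ℕ} (hk : Fintype.card (Mv x) = 2 * k) (hk0 : 0 < k) :
    Nat.card ↥(centralizer ({xm x} : Set (Perm (Mv x)))) = 2 ^ k * k.factorial := by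
  have : Fact (Nat.Prime 2) := ⟨Nat.prime_two⟩
  have h2 := cycleType_of_pow_prime_eq_one (xm_order x hx)
  have h4 := sum_cycleType (xm x)
  rw [support_xm, Finset.card_univ, hk] at h4
  have h5 : Multiset.card (xm x).cycleType = k := by
    rw [h2, Multiset.sum_replicate, smul_eq_mul] at h4
    omega
  rw [h5] at h2
  rw [nat_card_centralizer, h4, hk, Nat.sub_self, Nat.factorial_zero, one_mul, h2,
    Multiset.prod_replicate, Multiset.toFinset_replicate, if_neg hk0.ne', Finset.prod_singleton,
    Multiset.count_replicate_self]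

/-- `C / N` is solvable if at most 8 points are moved. -/
theorem solvable_quot (hx : orderOf x = 2) (h8 : Fintype.card (Mv x) ≤ 8) :
    Group.IsSolvable (↥(centralizer ({x} : Set (alternatingGroup α))) ⧸ (rho x).ker) := by
  obtain ⟨⟨j, hj⟩, hpos⟩ := card_moved x hx
  have hj2 : j = 1 ∨ j = 2 := by omega
  have hc : ∃ a b : ℕ, Nat.card ↥(centralizer ({xm x} : Set (Perm (Mv x)))) = 2 ^ a * 3 ^ b := by
    have h1 := card_centralizer_xm x hx (k := 2 * j) (by rw [hj]; ring) (by omega)
    rcases hj2 with rfl | rfl
    · exact ⟨3, 0, by rw [h1]; decide⟩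
    · exact ⟨7, 1, by rw [h1]; decide⟩
  obtain ⟨a, b, hab⟩ := hc
  have hsol : Group.IsSolvable ↥(centralizer ({xm x} : Set (Perm (Mv x)))) :=
    Cfsg.Agent.S0144.result 2 3 a b Nat.prime_two Nat.prime_three hab
  have hle : (rho x).range ≤ centralizer ({xm x} : Set (Perm (Mv x))) := by
    rintro _ ⟨c, rfl⟩
    exact rho_comm x c
  have h1 : Group.IsSolvable ↥(rho x).range :=
    Group.isSolvable_of_isSolvable_injective (f := Subgroup.inclusion hle) (Subgroup.inclusion_injective hle)
  exact Group.isSolvable_of_isSolvable_injective (f := (QuotientGroup.quotientKerEquivRange (rho x)).toMonoidHom)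
    (QuotientGroup.quotientKerEquivRange (rho x)).injective

theorem solvable_alt_four {β : Type} [Fintype β] [DecidableEq β] (h : Fintype.card β ≤ 4) :
    Group.IsSolvable (alternatingGroup β) := by
  have h1 : ∃ a b : ℕ, Nat.card (alternatingGroup β) = 2 ^ a * 3 ^ b := by
    have h2 : Nat.card (alternatingGroup β) ∣ (Fintype.card β).factorial := by
      rw [← Nat.card_eq_fintype_card, ← Nat.card_perm]
      exact card_subgroup_dvd_card _
    have h3 : (Fintype.card β).factorial ∣ 24 := by
      have := Nat.factorial_dvd_factorial h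
      exact this
    have h4 := h2.trans h3
    have h5 : Nat.card (alternatingGroup β) ≤ 24 := Nat.le_of_dvd (by norm_num) h4
    set m := Nat.card (alternatingGroup β)
    interval_cases m
    all_goals first
      | exact absurd h4 (by decide)
      | exact ⟨0, 0, rfl⟩
      | exact ⟨1, 0, rfl⟩
      | exact ⟨0, 1, rfl⟩
      | exact ⟨2, 0, rfl⟩
      | exact ⟨1, 1, rfl⟩
      | exact ⟨3, 0, rfl⟩
      | exact ⟨2, 1, rfl⟩
      | exact ⟨3, 1, rfl⟩
  obtain ⟨a, b, hab⟩ := h1
  exact Cfsg.Agent.S0144.result 2 3 a b Nat.prime_two Nat.prime_three hab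

end alt

theorem card_split {α : Type} [Fintype α] [DecidableEq α] (x : alternatingGroup α) :
    Fintype.card (Fx x) + Fintype.card (Mv x) = Fintype.card α := by
  have h1 := Fintype.card_subtype_compl (fun i : α => (x : Perm α) i = i)
  have h2 := Fintype.card_subtype_le (fun i : α => (x : Perm α) i = i)
  have h3 : Fintype.card (Mv x) = Fintype.card {i : α // ¬ (x : Perm α) i = i} := rfl
  have h4 : Fintype.card (Fx x) = Fintype.card {i : α // (x : Perm α) i = i} := rfl
  omega

/-- the components of `C(x)/O(C(x))`, `x` an involution of `A_n`, `n ≤ 11` -/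
theorem comp_alt_aux {n : ℕ} (hn : n ≤ 11) (x : alternatingGroup (Fin n)) (hx : orderOf x = 2)
    (K : Subgroup (↥(centralizer ({x} : Set (alternatingGroup (Fin n)))) ⧸
      pPrimeCore 2 ↥(centralizer ({x} : Set (alternatingGroup (Fin n))))))
    (hK : IsComponent K) :
    ∃ m : ℕ, 5 ≤ m ∧ m + 4 ≤ n ∧ Nonempty (↥K ≃* alternatingGroup (Fin m)) := by
  obtain ⟨⟨j, hj⟩, hpos⟩ := card_moved x hx
  have hsp := card_split x
  rw [Fintype.card_fin] at hsp
  have h8 : Fintype.card (Mv x) ≤ 8 := by omega
  have hq := solvable_quot x hx h8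
  by_cases h4 : Fintype.card (Fx x) ≤ 4
  · exfalso
    have hA := solvable_alt_four h4
    have hN : Group.IsSolvable ↥(rho x).ker :=
      Group.isSolvable_of_surjective (f := (kerEquiv x).toMonoidHom) (kerEquiv x).surjective
    have hC : Group.IsSolvable ↥(centralizer ({x} : Set (alternatingGroup (Fin n)))) :=
      Group.isSolvable_of_ker_le_range (rho x).ker.subtype (QuotientGroup.mk' (rho x).ker)
        (by rw [QuotientGroup.ker_mk', Subgroup.range_subtype])
    have hC' : Group.IsSolvable (↥(centralizer ({x} : Set (alternatingGroup (Fin n)))) ⧸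
      pPrimeCore 2 ↥(centralizer ({x} : Set (alternatingGroup (Fin n))))) := by
      have := Cfsg.Agent.Lib.Cores.pPrimeCore_normal (G := ↥(centralizer ({x} : Set (alternatingGroup (Fin n))))) 2
      exact inferInstance
    exact no_comp_of_solvable hC' K hK
  · have h5 : 5 ≤ Nat.card (Fx x) := by rw [Nat.card_eq_fintype_card]; omega
    have hs1 : IsSimpleGroup (alternatingGroup (Fx x)) := alternatingGroup.isSimpleGroup h5
    have hs2 : IsSimpleGroup ↥(rho x).ker := (MulEquiv.isSimpleGroup_congr (kerEquiv x)).1 hs1
    have hcard : ¬ (Nat.card ↥(rho x).ker).Coprime 2 := by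
      rw [← Nat.card_congr (kerEquiv x).toEquiv, Nat.coprime_two_right, Nat.not_odd_iff_even, Nat.even_iff]
      have : Nontrivial (Fx x) := by
        rw [← Fintype.one_lt_card_iff_nontrivial]
        omega
      have h6 := two_mul_nat_card_alternatingGroup (α := Fx x)
      rw [Nat.card_perm] at h6
      have h7 : 4 ∣ (Nat.card (Fx x)).factorial := by
        have h8 : (4 : ℕ).factorial ∣ (Nat.card (Fx x)).factorial := Nat.factorial_dvd_factorial (by omega)
        exact (by decide : (4 : ℕ) ∣ (4 : ℕ).factorial).trans h8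
      omega
    obtain ⟨e⟩ := comp_equiv (p := 2) (rho x).ker hq hcard K hK
    have e2 : alternatingGroup (Fx x) ≃* alternatingGroup (Fin (Fintype.card (Fx x))) :=
      (Fintype.equivFin (Fx x)).altCongrHom
    exact ⟨Fintype.card (Fx x), by omega, by omega, ⟨(e.trans (kerEquiv x).symm).trans e2⟩⟩

end Cfsg.Agent.GenType

end
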